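import Mathlib
import Cfsg.Agent.H697.Alm.Defs
import Cfsg.Agent.H698.Count
import Cfsg.Agent.H698.CaseS
import Cfsg.Agent.Lib.FieldAutCard

/-!
# S4790: counting (T10, T11)
-/

set_option autoImplicit false
set_option linter.unusedSectionVars false
set_option linter.unusedVariables false
open Cfsg Module

namespace Cfsg.Agent.H615.S4790

open Cfsg.Agent Cfsg.Agent.H697.Alm
open Cfsg.Agent.SignalizersComponents.Components

universe u v w

/-- `|E| - 1 ≤ r |D|` -/
theorem card_le_orb {D : Type v} {E : Type u} [Group D] [AddCommGroup E] [DistribMulAction D E] [Finite D] [Finite E] :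
    Nat.card E ≤ orb D E * Nat.card D + 1 := by
  classical
  have := Fintype.ofFinite E
  have := Fintype.ofFinite (MulAction.orbitRel.Quotient D E)
  let f : E → MulAction.orbitRel.Quotient D E := fun e => Quotient.mk _ e
  have hf : ∀ e e' : E, f e = f e' ↔ e ∈ MulAction.orbit D e' := by
    intro e e'
    exact Quotient.eq.trans (MulAction.orbitRel_apply)
  have h1 : (Finset.univ.erase (0 : E)).card ≤ Nat.card D * (Finset.univ.erase (f 0)).card := by
    refine Finset.card_le_mul_card_image_of_maps_to (f := f) ?_ (Nat.card D) ?_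
    · intro e he
      rw [Finset.mem_erase] at he ⊢
      refine ⟨fun h => he.1 ?_, Finset.mem_univ _⟩
      rw [hf] at h
      obtain ⟨d, hd⟩ := h
      rw [← hd]
      exact smul_zero d
    · intro c hc
      obtain ⟨e, rfl⟩ := Quotient.exists_rep c
      have hle : (MulAction.orbit D e).ncard ≤ Nat.card D := by
        rw [← MulAction.index_stabilizer]
        exact Nat.le_of_dvd Nat.card_pos (Subgroup.index_dvd_card _)
      refine le_trans ?_ hle
      rw [Set.ncard_eq_toFinset_card']
      refine Finset.card_le_card fun y hy => ?_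
      rw [Set.mem_toFinset]
      exact (hf y e).1 (Finset.mem_filter.1 hy).2
  rw [Finset.card_erase_of_mem (Finset.mem_univ _), Finset.card_erase_of_mem (Finset.mem_univ _), Finset.card_univ,
    Finset.card_univ, ← Nat.card_eq_fintype_card, ← Nat.card_eq_fintype_card] at h1
  have h2 : orb D E = Nat.card (MulAction.orbitRel.Quotient D E) - 1 := rfl
  rw [← h2, mul_comm] at h1
  omega

section

variable {D E : Type u} [Group D] [Finite D] [AddCommGroup E] [Finite E] [Nontrivial E] [DistribMulAction D E]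
  [FaithfulSMul D E] {F : Type u} [Field F] [Finite F] [Module F E]

omit [FaithfulSMul D E] in
theorem orb_pos : 1 ≤ orb D E := by
  have h1 := card_le_orb (D := D) (E := E)
  have h2 : 1 < Nat.card E := Finite.one_lt_card
  by_contra hcon
  have h3 : orb D E = 0 := by omega
  rw [h3] at h1
  omega

theorem charP {p : ℕ} (hp : p.Prime) (hpE : ∀ e : E, p • e = 0) (F : Type u) [Field F] [Module F E] : CharP F p := by
  have h1 : (p : F) = 0 := by
    obtain ⟨e, he⟩ := exists_ne (0 : E)
    have h2 : (p : F) • e = 0 := by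
      rw [Nat.cast_smul_eq_nsmul]
      exact hpE e
    rcases smul_eq_zero.1 h2 with h | h
    · exact h
    · exact absurd h he
  have := Fact.mk hp
  obtain ⟨q, hq⟩ := CharP.exists F
  have h3 : q ∣ p := (CharP.cast_eq_zero_iff F q p).1 h1
  rcases (Nat.dvd_prime hp).1 h3 with h | h
  · exfalso
    subst h
    exact CharP.ringChar_ne_one (R := F) (ringChar.eq F 1)
  · rwa [← h]

/-- over the prime field everything is linear -/
theorem CF_eq_top {p : ℕ} (hp : p.Prime) (hpE : ∀ e : E, p • e = 0) (hF : Nat.card F = p) : CF D E F = ⊤ := by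
  have hch := charP hp hpE F
  have := Fact.mk hp
  rw [eq_top_iff]
  intro d _
  have hsurj : Function.Surjective (Nat.cast : ℕ → F) := by
    have h1 : Function.Injective (ZMod.castHom (dvd_refl p) F) := (ZMod.castHom (dvd_refl p) F).injective
    have h2 : Function.Bijective (ZMod.castHom (dvd_refl p) F) := by
      have := Fintype.ofFinite F
      rw [Fintype.bijective_iff_injective_and_card]
      refine ⟨h1, ?_⟩
      rw [ZMod.card, ← hF, Nat.card_eq_fintype_card]
    intro c
    obtain ⟨a, rfl⟩ := h2.2 c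
    refine ⟨a.val, ?_⟩
    rw [ZMod.castHom_apply, ZMod.cast_eq_val]
  intro c e
  obtain ⟨n, rfl⟩ := hsurj c
  rw [Nat.cast_smul_eq_nsmul, Nat.cast_smul_eq_nsmul]
  exact map_nsmul (DistribSMul.toAddMonoidHom E d) n e

omit [Nontrivial E] [Finite E] [Finite D] [Finite F] in
theorem AF_le_center (hC : CF D E F = ⊤) : AF D E F ≤ Subgroup.center D := by
  rintro a ⟨c, hc⟩
  rw [Subgroup.mem_center_iff]
  intro d
  apply FaithfulSMul.eq_of_smul_eq_smul (α := E)
  intro e
  have hd : d ∈ CF D E F := hC ▸ Subgroup.mem_top d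
  rw [mul_smul, mul_smul, hc, hc, hd c e]

/-- the arithmetic of T11 -/
theorem arith11 {p r z x k kx N : ℕ} (h3 : 3 ≤ r) (hz : 1 ≤ z) (hx : 1 ≤ x) (hN : 1 ≤ N) (hp : 1 ≤ p)
    (hNr : N ≤ r * (x * z)) (hk : z + kx ≤ k + 1) (hkx : 2 ≤ kx)
    (hfine : ∀ z' : ℕ, N + 1 ≤ 2 * z' * x + 1 → p + 3 ≤ 2 * (z' + kx)) : p - 1 < r * k := by
  rcases Nat.lt_or_ge N (x * (p - 1)) with h | h
  · -- the least `z'`
    classical
    have hex : ∃ z', N ≤ 2 * z' * x := ⟨N, by nlinarith⟩
    obtain ⟨z', hz', hmin⟩ : ∃ z', N ≤ 2 * z' * x ∧ ∀ y < z', ¬ N ≤ 2 * y * x :=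
      ⟨Nat.find hex, Nat.find_spec hex, fun y hy => Nat.find_min hex hy⟩
    have hz1 : 1 ≤ z' := by
      rcases Nat.eq_zero_or_pos z' with h0 | h0
      · subst h0
        omega
      · exact h0
    have hm := hmin (z' - 1) (by omega)
    push Not at hm
    have hf := hfine z' (by omega)
    obtain ⟨s, hs⟩ : ∃ s, s = 2 * (z' - 1) := ⟨_, rfl⟩
    rw [← hs] at hm
    have hs1 : s < r * z := by
      have : s * x < (r * z) * x := by
        calc s * x < N := hm
          _ ≤ r * (x * z) := hNr
          _ = (r * z) * x := by ring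
      exact Nat.lt_of_mul_lt_mul_right this
    have hs2 : s < p - 1 := by
      have : s * x < (p - 1) * x := by
        calc s * x < N := hm
          _ < x * (p - 1) := h
          _ = (p - 1) * x := by ring
      exact Nat.lt_of_mul_lt_mul_right this
    have hf' : p + 1 ≤ s + 2 * kx := by omega
    obtain ⟨q, rfl⟩ : ∃ q, p = q + 1 := ⟨p - 1, by omega⟩
    rw [Nat.add_sub_cancel] at hs2 ⊢
    have hk2 : 2 * z + q ≤ 2 * k + s := by omega
    rcases Nat.lt_or_ge s (2 * z) with h4 | h4
    · have h5 : q + 1 ≤ 2 * k := by omega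
      nlinarith
    · obtain ⟨d, rfl⟩ : ∃ d, s = 2 * z + d := ⟨s - 2 * z, by omega⟩
      obtain ⟨e, rfl⟩ : ∃ e, q = 2 * z + d + e := ⟨q - (2 * z + d), by omega⟩
      have he : 1 ≤ e := by omega
      -- `2 k ≥ 2 z + e`, `r z ≥ 2 z + d + 1`
      have h5 : 2 * z + e ≤ 2 * k := by omega
      have h6 : 2 * z + d + 1 ≤ r * z := hs1
      have h7 : (2 * z + d + 1) * (2 * z + e) ≤ (r * z) * (2 * k) := Nat.mul_le_mul h6 h5
      have h8 : z * (2 * (2 * z + d + e)) < z * (2 * (r * k)) := by
        calc z * (2 * (2 * z + d + e)) < (2 * z + d + 1) * (2 * z + e) := by nlinarith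
          _ ≤ (r * z) * (2 * k) := h7
          _ = z * (2 * (r * k)) := by ring
      have h9 := Nat.lt_of_mul_lt_mul_left h8
      omega
  · have h1 : (p - 1) * x ≤ (r * z) * x := by
      calc (p - 1) * x = x * (p - 1) := by ring
        _ ≤ N := h
        _ ≤ r * (x * z) := hNr
        _ = (r * z) * x := by ring
    have h2 : p - 1 ≤ r * z := Nat.le_of_mul_le_mul_right h1 hx
    have h4 : z + 1 ≤ k := by omega
    nlinarith

/-- T11 -/
theorem ps_comp {p m : ℕ} (hp : p.Prime) (h23 : 23 ≤ p) (hpE : ∀ e : E, p • e = 0)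
    (hcop : ¬ p ∣ Nat.card D) (fr : Fr D E F) (hF : Nat.card F = p) (hm : finrank F E = m) (hm3 : 3 ≤ m)
    (hfine : ∀ (T : Type u) [Group T] [Finite T] [IsSimpleGroup T], ¬ IsMulCommutative T → H698.Fine.{u, u} T)
    (h3 : 3 ≤ orb D E) (K : Subgroup D) (hK : IsComponent K) (hKn : K.Normal)
    (hR : H698.Rep.{u, u} p m (K ⧸ Subgroup.center K))
    (hc : CF D E F ⊓ Subgroup.centralizer (K : Set D) = AF D E F) :
    p - 1 < orb D E * Nat.card (ConjClasses D) := by
  have hpf := Fact.mk hp
  have hCF := CF_eq_top (D := D) (F := F) hp hpE hF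
  have hcen := AF_le_center hCF
  rw [hCF, top_inf_eq] at hc
  have hsimple : IsSimpleGroup (K ⧸ Subgroup.center K) := hK.2.2
  have hna := H698.CaseS.not_comm_quot hK.2
  obtain ⟨A, hA⟩ : ∃ A : Subgroup D, A = AF D E F := ⟨_, rfl⟩
  rw [← hA] at hc hcen
  have hAn : A.Normal := by rw [← hc]; infer_instance
  have hker : (H698.CaseS.psi K).ker = A := by rw [← hc]; exact H698.CaseS.psi_ker K hK.2.1
  let e : (D ⧸ A) ≃* (H698.CaseS.psi K).range :=
    (QuotientGroup.quotientMulEquivOfEq hker.symm).trans (QuotientGroup.quotientKerEquivRange (H698.CaseS.psi K))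
  have hXq : Nat.card (D ⧸ A) = Nat.card (H698.CaseS.psi K).range := Nat.card_congr e.toEquiv
  have hXcl : Nat.card (ConjClasses (D ⧸ A)) = Nat.card (ConjClasses (H698.CaseS.psi K).range) :=
    H697.ClassCount.card_conjClasses_congr e
  have hDA : Nat.card D = Nat.card (H698.CaseS.psi K).range * Nat.card A := by
    rw [← hXq]
    exact Subgroup.card_eq_card_quotient_mul_card_subgroup A
  have hAc : Subgroup.centralizer (A : Set D) = ⊤ := by
    rw [eq_top_iff]
    intro d _
    rw [Subgroup.mem_centralizer_iff]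
    intro a ha
    exact (Subgroup.mem_center_iff.1 (hcen ha) d).symm
  obtain ⟨z, hz1, hz2⟩ := H698.Count.count A (a := 1) (by rw [hAc, Subgroup.index_top])
  rw [one_mul] at hz1
  rw [hXcl] at hz2
  have hfin : Module.Finite F E := Module.Finite.of_finite
  have hE : Nat.card E = p ^ m := by
    rw [Module.natCard_eq_pow_finrank (K := F), hF, hm]
  have hcard := card_le_orb (D := D) (E := E)
  rw [hE, hDA] at hcard
  have hpm : 1 < p ^ m := Nat.one_lt_pow (by omega) hp.one_lt
  have hT := hfine (K ⧸ Subgroup.center K) hna p m hp (by omega) (by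
    intro hd
    apply hcop
    have h1 : Nat.card (K ⧸ Subgroup.center K) ∣ Nat.card K := Subgroup.card_quotient_dvd_card _
    exact (hd.trans h1).trans (Subgroup.card_subgroup_dvd_card K)) hm3 hR (H698.CaseS.psi K).range
    (H698.CaseS.conj_range_le K)
  have hXne : 2 ≤ Nat.card (ConjClasses (H698.CaseS.psi K).range) := by
    have hnt : Nontrivial (H698.CaseS.psi K).range := by
      have : Nontrivial (K ⧸ Subgroup.center K) := hsimple.toNontrivial
      have h1 := H698.card_le_of_range (T := K ⧸ Subgroup.center K) (by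
        rcases hsimple.eq_bot_or_eq_top_of_normal (Subgroup.center (K ⧸ Subgroup.center K)) inferInstance with h | h
        · exact h
        · exfalso
          apply hna
          refine ⟨⟨fun a b => ?_⟩⟩
          have : b ∈ Subgroup.center (K ⧸ Subgroup.center K) := by rw [h]; exact Subgroup.mem_top b
          exact Subgroup.mem_center_iff.1 this a) (H698.CaseS.conj_range_le K)
      rw [← Finite.one_lt_card_iff_nontrivial]
      exact lt_of_lt_of_le (Finite.one_lt_card_iff_nontrivial.2 this) h1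
    have : Nontrivial (ConjClasses (H698.CaseS.psi K).range) := by
      obtain ⟨x, hx⟩ := exists_ne (1 : (H698.CaseS.psi K).range)
      refine ⟨ConjClasses.mk x, ConjClasses.mk 1, ?_⟩
      rw [Ne, ConjClasses.mk_eq_mk_iff_isConj, isConj_comm, isConj_one_right]
      exact hx
    exact Finite.one_lt_card_iff_nontrivial.2 this
  have hA1 : 1 ≤ Nat.card A := Nat.card_pos
  refine arith11 (N := p ^ m - 1) (x := Nat.card (H698.CaseS.psi K).range) (z := Nat.card A)
    (kx := Nat.card (ConjClasses (H698.CaseS.psi K).range)) h3 hA1 Nat.card_pos (by omega) hp.one_le (by omega)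
    (by omega) hXne ?_
  intro z' hz'
  exact hT z' (by omega)

/-- `|D : CF| ≤ a` -/
theorem index_CF_le {p a : ℕ} (hp : p.Prime) (fr : Fr D E F) (hF : Nat.card F = p ^ a) (ha : 1 ≤ a) :
    (CF D E F).index ≤ a := by
  classical
  choose σ hσ using fr.norm
  have huniq : ∀ (d : D) (c k : F), (∀ e : E, d • (c • e) = k • (d • e)) → σ d c = k := by
    intro d c k h
    obtain ⟨e, he⟩ := exists_ne (0 : E)
    have h1 := hσ d c (d⁻¹ • e)
    rw [h (d⁻¹ • e), smul_inv_smul] at h1
    by_contra hne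
    have h2 : (k - σ d c) • e = 0 := by rw [sub_smul, h1, sub_self]
    rcases smul_eq_zero.1 h2 with h3 | h3
    · exact hne (sub_eq_zero.1 h3).symm
    · exact he h3
  let inst : MulSemiringAction D F :=
    { smul := σ
      one_smul := fun c => huniq 1 c c (fun e => by rw [one_smul, one_smul])
      mul_smul := fun d d' c => huniq (d * d') c (σ d (σ d' c)) (fun e => by
        rw [mul_smul, mul_smul, hσ d' c e, hσ])
      smul_zero := fun d => huniq d 0 0 (fun e => by rw [zero_smul, zero_smul, smul_zero])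
      smul_add := fun d c c' => huniq d (c + c') (σ d c + σ d c') (fun e => by
        rw [add_smul, smul_add, hσ, hσ, add_smul])
      smul_one := fun d => huniq d 1 1 (fun e => by rw [one_smul, one_smul])
      smul_mul := fun d c c' => huniq d (c * c') (σ d c * σ d c') (fun e => by
        rw [mul_smul, hσ, hσ, mul_smul]) }
  let φ : D →* RingAut F := MulSemiringAction.toRingAut D F
  have hφ : ∀ d c, φ d c = σ d c := fun d c => rfl
  have hker : φ.ker = CF D E F := by
    ext d
    rw [MonoidHom.mem_ker]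
    constructor
    · intro h c e
      have h1 : σ d c = c := by
        rw [← hφ, h]
        rfl
      rw [hσ, h1]
    · intro h
      ext c
      rw [hφ]
      exact huniq d c c (fun e => h c e)
  rw [← hker, Subgroup.index_ker]
  have := Fintype.ofFinite F
  have hpf := Fact.mk hp
  have h1 := Lib.FieldAutCard.card_ringAut (F := F) ha (by rw [← hF, Nat.card_eq_fintype_card])
  rw [← h1]
  have : Finite (RingAut F) := Finite.of_injective (fun e : RingAut F => (e : F → F)) DFunLike.coe_injective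
  exact Nat.card_le_card_of_injective (Subtype.val : φ.range → RingAut F) Subtype.val_injective

omit [Finite D] [Finite E] [FaithfulSMul D E] [Nontrivial E] [Finite F] in
theorem AF_le_CF : AF D E F ≤ CF D E F := by
  rintro a ⟨c, hc⟩ c' e
  rw [hc, hc, smul_smul, smul_smul, mul_comm]

omit [Finite D] [Finite E] [FaithfulSMul D E] [Nontrivial E] [Finite F] in
theorem AF_normal (fr : Fr D E F) : (AF D E F).Normal := by
  constructor
  rintro a ⟨c, hc⟩ d
  obtain ⟨c', hc'⟩ := fr.norm d c
  refine ⟨c', fun e => ?_⟩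
  rw [mul_smul, mul_smul, hc, hc', smul_inv_smul]

omit [Finite D] [Finite E] [Nontrivial E] [Finite F] in
theorem CF_le_cen : CF D E F ≤ Subgroup.centralizer ((AF D E F : Subgroup D) : Set D) := by
  intro g hg
  rw [Subgroup.mem_centralizer_iff]
  rintro a ⟨c, hc⟩
  apply FaithfulSMul.eq_of_smul_eq_smul (α := E)
  intro e
  rw [mul_smul, mul_smul, hc, hc, hg c e]

theorem arith10a {p a : ℕ} (hp : 23 ≤ p) (ha : 2 ≤ a) : (p - 1) * a ^ 2 + 1 < p ^ a := by
  obtain ⟨q, rfl⟩ : ∃ q, p = q + 1 := ⟨p - 1, by omega⟩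
  rw [Nat.add_sub_cancel]
  obtain ⟨k, rfl⟩ : ∃ k, a = k + 2 := ⟨a - 2, by omega⟩
  clear ha
  induction k with
  | zero =>
    have e1 : (q + 1) ^ (0 + 2) = (q + 1) * (q + 1) := by ring
    have e2 : q * (0 + 2) ^ 2 = 4 * q := by ring
    rw [e1, e2]
    nlinarith
  | succ k ih =>
    have h1 : (q + 1) ^ (k + 1 + 2) = (q + 1) * (q + 1) ^ (k + 2) := by ring
    rw [h1]
    have h2 : (q + 1) * (q * (k + 2) ^ 2 + 1 + 1) ≤ (q + 1) * (q + 1) ^ (k + 2) := Nat.mul_le_mul_left _ ih
    refine lt_of_lt_of_le ?_ h2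
    have h3 : (k + 1 + 2) ^ 2 ≤ (q + 1) * (k + 2) ^ 2 := by
      calc (k + 1 + 2) ^ 2 ≤ 23 * (k + 2) ^ 2 := by
            have e1 : (k + 1 + 2) ^ 2 = k * k + 6 * k + 9 := by ring
            have e2 : 23 * (k + 2) ^ 2 = 23 * (k * k) + 92 * k + 92 := by ring
            rw [e1, e2]
            omega
        _ ≤ (q + 1) * (k + 2) ^ 2 := Nat.mul_le_mul_right _ hp
    have h4 : q * (k + 1 + 2) ^ 2 ≤ q * ((q + 1) * (k + 2) ^ 2) := Nat.mul_le_mul_left _ h3
    nlinarith

theorem arith10b {k : ℕ} (hk : 1 ≤ k) : 6 * (k + 1) ^ 2 < 529 ^ k := by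
  obtain ⟨j, rfl⟩ : ∃ j, k = j + 1 := ⟨k - 1, by omega⟩
  clear hk
  induction j with
  | zero => norm_num
  | succ j ih =>
    have h1 : 529 ^ (j + 1 + 1) = 529 * 529 ^ (j + 1) := by ring
    rw [h1]
    nlinarith

theorem arith10c {p a m : ℕ} (hp : 23 ≤ p) (ha : 2 ≤ a) (hm : 2 ≤ m) :
    (p - 1) * ((6 * p ^ (m - 1)) * a ^ 2) + 1 < p ^ (a * m) := by
  have h1 : (p - 1) * ((6 * p ^ (m - 1)) * a ^ 2) + 1 ≤ 6 * a ^ 2 * p ^ m := by
    obtain ⟨n, rfl⟩ : ∃ n, m = n + 1 := ⟨m - 1, by omega⟩
    obtain ⟨q, rfl⟩ : ∃ q, p = q + 1 := ⟨p - 1, by omega⟩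
    have e1 : (q + 1) ^ (n + 1) = (q + 1) ^ n * (q + 1) := pow_succ _ _
    rw [Nat.add_sub_cancel, Nat.add_sub_cancel, e1]
    have h2 : 1 ≤ (q + 1) ^ n := Nat.one_le_pow _ _ (by omega)
    have h3 : 1 ≤ a ^ 2 := Nat.one_le_pow _ _ (by omega)
    have h4 : 1 ≤ (q + 1) ^ n * a ^ 2 := Nat.mul_pos h2 h3
    calc q * (6 * (q + 1) ^ n * a ^ 2) + 1 ≤ q * (6 * (q + 1) ^ n * a ^ 2) + 6 * ((q + 1) ^ n * a ^ 2) := by omega
      _ = 6 * a ^ 2 * ((q + 1) ^ n * (q + 1)) := by ring
  refine lt_of_le_of_lt h1 ?_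
  obtain ⟨k, rfl⟩ : ∃ k, a = k + 1 := ⟨a - 1, by omega⟩
  have h2 := arith10b (k := k) (by omega)
  have h3 : 529 ^ k ≤ p ^ (k * m) := by
    calc 529 ^ k = (23 ^ 2) ^ k := by norm_num
      _ = 23 ^ (2 * k) := by rw [← pow_mul]
      _ ≤ p ^ (2 * k) := Nat.pow_le_pow_left hp _
      _ ≤ p ^ (k * m) := Nat.pow_le_pow_right (by omega) (by nlinarith)
  calc 6 * (k + 1) ^ 2 * p ^ m < 529 ^ k * p ^ m := Nat.mul_lt_mul_of_pos_right h2 (by positivity)
    _ ≤ p ^ (k * m) * p ^ m := Nat.mul_le_mul_right _ h3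
    _ = p ^ ((k + 1) * m) := by rw [← pow_add]; congr 1; ring

/-- T10: counting, all cases with a good bound -/
theorem ps_count {p a m : ℕ} (hp : p.Prime) (h23 : 23 ≤ p) (hpE : ∀ e : E, p • e = 0)
    (hcop : ¬ p ∣ Nat.card D) (fr : Fr D E F) (hF : Nat.card F = p ^ a) (hm : finrank F E = m) (hne : Nat.card E ≠ p)
    (h1 : m = 1 → CF D E F = AF D E F) (h2 : (AF D E F).relIndex (CF D E F) ≤ 6 * p ^ (m - 1))
    (h3 : a = 1 → (AF D E F).relIndex (CF D E F) * (p - 1) ≤ p ^ m - 1) :
    p - 1 < orb D E * Nat.card (ConjClasses D) := by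
  have hfin : Module.Finite F E := Module.Finite.of_finite
  have hE : Nat.card E = p ^ (a * m) := by
    rw [Module.natCard_eq_pow_finrank (K := F), hF, hm, pow_mul]
  have hE1 : 1 < Nat.card E := Finite.one_lt_card
  have ha1 : 1 ≤ a := by
    rcases Nat.eq_zero_or_pos a with h | h
    · subst h
      rw [hE, zero_mul, pow_zero] at hE1
      omega
    · exact h
  have hm1 : 1 ≤ m := by
    rcases Nat.eq_zero_or_pos m with h | h
    · subst h
      rw [hE, mul_zero, pow_zero] at hE1
      omega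
    · exact h
  obtain ⟨A, hA⟩ : ∃ A : Subgroup D, A = AF D E F := ⟨_, rfl⟩
  have hAn : A.Normal := by rw [hA]; exact AF_normal fr
  have hCa := index_CF_le (D := D) hp fr hF ha1
  obtain ⟨b, hb⟩ : ∃ b, b = (AF D E F).relIndex (CF D E F) := ⟨_, rfl⟩
  rw [← hb] at h2 h3
  have hidx : A.index = b * (CF D E F).index := by
    rw [hA, hb]
    exact (Subgroup.relIndex_mul_index AF_le_CF).symm
  have hb1 : 1 ≤ b := by
    rw [hb]
    exact Nat.pos_of_ne_zero Subgroup.index_ne_zero_of_finite
  have hcenA : (Subgroup.centralizer (A : Set D)).index ≤ a := by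
    refine le_trans (Nat.le_of_dvd (Nat.pos_of_ne_zero Subgroup.index_ne_zero_of_finite)
      (Subgroup.index_dvd_of_le ?_)) hCa
    rw [hA]
    exact CF_le_cen
  obtain ⟨z, hz1, hz2⟩ := H698.Count.count A hcenA
  have hcard := card_le_orb (D := D) (E := E)
  have hDA : Nat.card D = Nat.card A * A.index := (A.card_mul_index).symm
  have hqpos : 1 ≤ Nat.card (ConjClasses (D ⧸ A)) := Nat.card_pos
  have hr := orb_pos (D := D) (E := E)
  rcases Nat.lt_or_ge a 2 with ha2 | ha2
  · have ha : a = 1 := by omega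
    subst ha
    rw [one_mul] at hz1 hE
    rw [pow_one] at hF
    have hCF := CF_eq_top (D := D) (F := F) hp hpE hF
    rw [hCF, Subgroup.index_top, mul_one] at hidx
    have h3' := h3 rfl
    rw [hE, hDA, hidx] at hcard
    by_cases hb2 : b = 1
    · subst hb2
      have hm2 : 2 ≤ m := by
        by_contra hcon
        have : m = 1 := by omega
        rw [this, pow_one] at hE
        exact hne hE
      have h5 : p ^ 2 ≤ p ^ m := Nat.pow_le_pow_right hp.pos hm2
      rw [mul_one] at hcard
      have h6 : Nat.card A ≤ Nat.card (ConjClasses D) := by omega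
      have h7 : orb D E * Nat.card A ≤ orb D E * Nat.card (ConjClasses D) := Nat.mul_le_mul_left _ h6
      have h8 : p < p ^ 2 := by nlinarith
      omega
    · have hnt : Nontrivial (D ⧸ A) := by
        rw [← Finite.one_lt_card_iff_nontrivial]
        have : Nat.card (D ⧸ A) = b := hidx
        omega
      have hq2 : 2 ≤ Nat.card (ConjClasses (D ⧸ A)) := by
        have : Nontrivial (ConjClasses (D ⧸ A)) := by
          obtain ⟨x, hx⟩ := exists_ne (1 : D ⧸ A)
          refine ⟨ConjClasses.mk x, ConjClasses.mk 1, ?_⟩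
          rw [Ne, ConjClasses.mk_eq_mk_iff_isConj, isConj_comm, isConj_one_right]
          exact hx
        exact Finite.one_lt_card_iff_nontrivial.2 this
      have h6 : Nat.card A + 1 ≤ Nat.card (ConjClasses D) := by omega
      have h7 : (orb D E * (Nat.card A + 1)) * b ≤ (orb D E * Nat.card (ConjClasses D)) * b :=
        Nat.mul_le_mul_right _ (Nat.mul_le_mul_left _ h6)
      have h8 : 1 ≤ orb D E * b := Nat.mul_pos hr hb1
      have h9 : (p - 1) * b < (orb D E * Nat.card (ConjClasses D)) * b := by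
        calc (p - 1) * b = b * (p - 1) := by ring
          _ ≤ p ^ m - 1 := h3'
          _ ≤ orb D E * (Nat.card A * b) := by omega
          _ < orb D E * (Nat.card A * b) + orb D E * b := by omega
          _ = (orb D E * (Nat.card A + 1)) * b := by ring
          _ ≤ _ := h7
      exact Nat.lt_of_mul_lt_mul_right h9
  · by_contra hcon
    push Not at hcon
    have h4 : Nat.card E ≤ (p - 1) * (b * a ^ 2) + 1 := by
      have h5 : Nat.card D ≤ (a * Nat.card (ConjClasses D)) * (b * a) := by
        rw [hDA, hidx]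
        refine Nat.mul_le_mul (hz1.trans (Nat.mul_le_mul_left _ (by omega))) (Nat.mul_le_mul_left _ hCa)
      calc Nat.card E ≤ orb D E * Nat.card D + 1 := hcard
        _ ≤ orb D E * ((a * Nat.card (ConjClasses D)) * (b * a)) + 1 := by
            have := Nat.mul_le_mul_left (orb D E) h5
            omega
        _ = (orb D E * Nat.card (ConjClasses D)) * (b * a ^ 2) + 1 := by ring
        _ ≤ (p - 1) * (b * a ^ 2) + 1 := by
            have := Nat.mul_le_mul_right (b * a ^ 2) hcon
            omega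
    rw [hE] at h4
    rcases Nat.lt_or_ge m 2 with hm2 | hm2
    · have hm' : m = 1 := by omega
      subst hm'
      have hb' : b = 1 := by
        rw [hb, h1 rfl, Subgroup.relIndex_self]
      rw [hb', one_mul, mul_one] at h4
      have := arith10a h23 ha2
      omega
    · have h5 := arith10c h23 ha2 hm2
      have h6 : (p - 1) * (b * a ^ 2) ≤ (p - 1) * ((6 * p ^ (m - 1)) * a ^ 2) :=
        Nat.mul_le_mul_left _ (Nat.mul_le_mul_right _ h2)
      omega

end

end Cfsg.Agent.H615.S4790
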